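import Groth.Agent.Lib.IsQuot25.GalExt
import Mathlib.RingTheory.Localization.BaseChange
import Mathlib.RingTheory.Etale.Locus
import Mathlib.RingTheory.Filtration
import Mathlib.RingTheory.Ideal.Pointwise

/-!
# The quotient by a finite group is étale exactly at the points with trivial stabiliser
-/

open TensorProduct
open scoped Pointwise

universe u

namespace Groth.Agent.FinQuotH28

variable {R B G : Type u} [CommRing R] [IsDomain R] [CommRing B] [Algebra B R] [Group G] [MulSemiringAction G R]
  [SMulCommClass G B R]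

section action

variable (L : Type u) [CommRing L] [Algebra B L]

/-- The action on the second factor. -/
@[reducible] noncomputable def tensorAction : MulSemiringAction G (L ⊗[B] R) where
  smul g z := Algebra.TensorProduct.map (AlgHom.id B L) (MulSemiringAction.toAlgHom B R g) z
  one_smul z := by
    show Algebra.TensorProduct.map (AlgHom.id B L) (MulSemiringAction.toAlgHom B R (1 : G)) z = z
    induction z with
    | zero => simp
    | add a b ha hb => rw [map_add, ha, hb]
    | tmul l r => simp
  mul_smul g h z := by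
    show Algebra.TensorProduct.map (AlgHom.id B L) (MulSemiringAction.toAlgHom B R (g * h)) z =
      Algebra.TensorProduct.map (AlgHom.id B L) (MulSemiringAction.toAlgHom B R g)
        (Algebra.TensorProduct.map (AlgHom.id B L) (MulSemiringAction.toAlgHom B R h) z)
    induction z with
    | zero => simp
    | add a b ha hb => simp only [map_add, ha, hb]
    | tmul l r => simp [mul_smul]
  smul_zero g := map_zero (Algebra.TensorProduct.map (AlgHom.id B L) (MulSemiringAction.toAlgHom B R g))
  smul_add g := map_add (Algebra.TensorProduct.map (AlgHom.id B L) (MulSemiringAction.toAlgHom B R g))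
  smul_one g := map_one (Algebra.TensorProduct.map (AlgHom.id B L) (MulSemiringAction.toAlgHom B R g))
  smul_mul g := map_mul (Algebra.TensorProduct.map (AlgHom.id B L) (MulSemiringAction.toAlgHom B R g))

lemma tensorAction_tmul (g : G) (l : L) (r : R) :
    letI := tensorAction (R := R) (B := B) (G := G) L
    g • (l ⊗ₜ[B] r) = l ⊗ₜ[B] (g • r) := rfl

lemma tensorAction_smulCommClass :
    letI := tensorAction (R := R) (B := B) (G := G) L
    SMulCommClass G L (L ⊗[B] R) := by
  letI := tensorAction (R := R) (B := B) (G := G) L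
  refine ⟨fun g l z => ?_⟩
  induction z with
  | zero => simp
  | add a b ha hb => rw [smul_add, smul_add, ha, hb, smul_add, smul_add]
  | tmul l' r =>
    rw [TensorProduct.smul_tmul', smul_eq_mul, tensorAction_tmul, tensorAction_tmul, TensorProduct.smul_tmul',
      smul_eq_mul]

end action

variable [Finite G] [FaithfulSMul B R] [Algebra.IsInvariant B R G]

/-- Étale where the stabiliser is trivial. -/
theorem isEtaleAt_of_stabilizer_eq_bot (m : Ideal R) [hm : m.IsMaximal] (h : MulAction.stabilizer G m = ⊥) :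
    Algebra.IsEtaleAt B m := by
  classical
  cases nonempty_fintype G
  let I : G → Ideal R := fun g => Ideal.span (Set.range fun b : R => b - g • b)
  have hI : ∀ g : G, g ≠ 1 → ∀ a : G, ¬ I g ≤ a • m := by
    intro g hg a hle
    have hfix : g • (a • m) = a • m := by
      have hsub : ∀ g' : G, (∀ r, r - g' • r ∈ a • m) → g' • (a • m) ≤ a • m := by
        intro g' hg' y hy
        obtain ⟨z, hz, rfl⟩ := (Ideal.mem_pointwise_smul_iff_inv_smul_mem.1 hy : g'⁻¹ • y ∈ a • m) |>
          fun hy' => (⟨g'⁻¹ • y, hy', (smul_inv_smul g' y)⟩ : ∃ z ∈ a • m, g' • z = y)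
        rw [show g' • z = z - (z - g' • z) by ring]
        exact sub_mem hz (hg' z)
      have h1 : ∀ r, r - g • r ∈ a • m := fun r => hle (Ideal.subset_span ⟨r, rfl⟩)
      refine le_antisymm (hsub g h1) ?_
      have h2 : ∀ r, r - g⁻¹ • r ∈ a • m := fun r => by
        have := h1 (g⁻¹ • r)
        rw [smul_inv_smul] at this
        rw [show r - g⁻¹ • r = -(g⁻¹ • r - r) by ring]
        exact neg_mem this
      have := hsub g⁻¹ h2
      rwa [Ideal.pointwise_smul_le_pointwise_smul_iff (a := g) |>.symm, smul_inv_smul] at this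
    have : a⁻¹ * g * a ∈ MulAction.stabilizer G m := by
      rw [MulAction.mem_stabilizer_iff, mul_smul, mul_smul, hfix, inv_smul_smul]
    rw [h, Subgroup.mem_bot] at this
    apply hg
    rw [show g = a * (a⁻¹ * g * a) * a⁻¹ by group, this]
    group
  have hprime : ∀ a : G, (a • m).IsMaximal := fun a => by
    rw [Ideal.pointwise_smul_eq_comap]
    exact Ideal.comap_isMaximal_of_surjective _ (MulSemiringAction.toRingEquiv G R a⁻¹).surjective
  obtain ⟨d, hdI, hd⟩ : ∃ d : R, d ∈ ∏ g ∈ Finset.univ.filter (fun g : G => g ≠ 1), I g ∧ ∀ a : G, d ∉ a • m := by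
    by_contra hne
    push Not at hne
    have hsub : (((∏ g ∈ Finset.univ.filter (fun g : G => g ≠ 1), I g) : Ideal R) : Set R) ⊆
        ⋃ a ∈ (↑(Finset.univ : Finset G) : Set G), ((a • m : Ideal R) : Set R) := fun d hd => by
      obtain ⟨a, ha⟩ := hne d hd
      exact Set.mem_biUnion (Finset.mem_coe.2 (Finset.mem_univ a)) ha
    obtain ⟨a, -, ha⟩ := (Ideal.subset_union_prime 1 1 fun a _ _ _ => (hprime a).isPrime).1 hsub
    obtain ⟨g, hg, hga⟩ := ((hprime a).isPrime.prod_le).1 ha
    exact hI g (Finset.mem_filter.1 hg).2 a hga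
  obtain ⟨f, hf⟩ := Algebra.IsInvariant.isInvariant (A := B) (G := G) (∏ a : G, a • d) (fun g => by
    rw [Finset.smul_prod']
    exact Fintype.prod_equiv (Equiv.mulLeft g) _ _ fun a => by simp [mul_smul])
  have hfI : ∀ g : G, g ≠ 1 → algebraMap B R f ∈ I g := by
    intro g hg
    rw [hf, ← Finset.prod_erase_mul Finset.univ _ (Finset.mem_univ (1 : G)), one_smul]
    refine Ideal.mul_mem_left _ _ ?_
    exact (Ideal.prod_le_inf.trans (Finset.inf_le (Finset.mem_filter.2 ⟨Finset.mem_univ g, hg⟩))) hdI
  have hfm : algebraMap B R f ∉ m := by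
    rw [hf, Ideal.IsPrime.prod_mem_iff]
    rintro ⟨a, -, ha⟩
    refine hd a⁻¹ ?_
    rw [Ideal.mem_pointwise_smul_iff_inv_smul_mem, inv_inv]
    exact ha
  let L := Localization.Away f
  letI act := tensorAction (R := R) (B := B) (G := G) L
  haveI := tensorAction_smulCommClass (R := R) (B := B) (G := G) L
  letI : Algebra R (L ⊗[B] R) := Algebra.TensorProduct.rightAlgebra
  haveI hloc : IsLocalization.Away (algebraMap B R f) (L ⊗[B] R) := inferInstance
  have hfR : algebraMap B R f ≠ 0 := fun h0 => hfm (by rw [h0]; exact zero_mem m)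
  have hle : (Submonoid.powers (algebraMap B R f)) ≤ nonZeroDivisors R :=
    powers_le_nonZeroDivisors_of_noZeroDivisors hfR
  have hRinj : Function.Injective (algebraMap R (L ⊗[B] R)) := IsLocalization.injective _ hle
  have hsmul : ∀ (g : G) (r : R), g • algebraMap R (L ⊗[B] R) r = algebraMap R (L ⊗[B] R) (g • r) :=
    fun g r => rfl
  haveI : Algebra.IsInvariant L (L ⊗[B] R) G := by
    refine ⟨fun z hz => ?_⟩
    obtain ⟨n, r, hr⟩ := IsLocalization.Away.surj (algebraMap B R f) z
    have hfl : ∀ g : G, g • algebraMap R (L ⊗[B] R) (algebraMap B R f) = algebraMap R (L ⊗[B] R) (algebraMap B R f) :=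
      fun g => by rw [hsmul, smul_algebraMap]
    have hrinv : ∀ g : G, g • r = r := fun g => hRinj (by
      rw [← hsmul, ← hr, smul_mul', smul_pow', hfl, hz g])
    obtain ⟨b, hb⟩ := Algebra.IsInvariant.isInvariant (A := B) (G := G) r hrinv
    have hu : IsUnit (algebraMap B L f) := IsLocalization.Away.algebraMap_isUnit f
    obtain ⟨v, hv⟩ := (hu.pow n).exists_left_inv
    refine ⟨v * algebraMap B L b, ?_⟩
    have e1 : algebraMap R (L ⊗[B] R) (algebraMap B R f) = algebraMap L (L ⊗[B] R) (algebraMap B L f) :=
      (Algebra.TensorProduct.tmul_one_eq_one_tmul f).symm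
    have e2 : algebraMap R (L ⊗[B] R) r = algebraMap L (L ⊗[B] R) (algebraMap B L b) := by
      rw [← hb]; exact (Algebra.TensorProduct.tmul_one_eq_one_tmul b).symm
    rw [map_mul, ← e2, ← hr, ← mul_assoc, mul_comm _ z, mul_assoc, e1, ← map_pow, ← map_mul, hv, map_one, mul_one]
  have hLinj : Function.Injective (algebraMap L (L ⊗[B] R)) := by
    rw [injective_iff_map_eq_zero]
    intro l hl
    obtain ⟨b, ⟨_, n, rfl⟩, rfl⟩ := IsLocalization.exists_mk'_eq (Submonoid.powers f) l
    have h1 := congrArg (algebraMap L (L ⊗[B] R)) (IsLocalization.mk'_spec L b (⟨f ^ n, n, rfl⟩ : Submonoid.powers f))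
    rw [map_mul, hl, zero_mul] at h1
    have h2 : algebraMap R (L ⊗[B] R) (algebraMap B R b) = algebraMap R (L ⊗[B] R) 0 := by
      rw [map_zero, h1]; exact (Algebra.TensorProduct.tmul_one_eq_one_tmul b).symm
    rw [show b = 0 from FaithfulSMul.algebraMap_injective B R (by rw [hRinj h2, map_zero])]
    exact IsLocalization.mk'_zero _
  have hfree : ∀ g : G, g ≠ 1 → Ideal.span (Set.range fun b : L ⊗[B] R => b - g • b) = ⊤ := by
    intro g hg
    refine Ideal.eq_top_of_isUnit_mem _ ?_ (IsLocalization.Away.algebraMap_isUnit (algebraMap B R f))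
    refine (Ideal.map_le_iff_le_comap.2 ?_) (Ideal.mem_map_of_mem (algebraMap R (L ⊗[B] R)) (hfI g hg))
    refine Ideal.span_le.2 ?_
    rintro _ ⟨b, rfl⟩
    show algebraMap R (L ⊗[B] R) (b - g • b) ∈ Ideal.span _
    rw [map_sub, ← hsmul]
    exact Ideal.subset_span ⟨_, rfl⟩
  haveI : Algebra.Etale L (L ⊗[B] R) := IsQuot25.GalExt.etale hfree hLinj
  haveI : Algebra.FormallyEtale B L := Algebra.FormallyEtale.of_isLocalization (Submonoid.powers f)
  haveI : Algebra.FormallyEtale B (L ⊗[B] R) := Algebra.FormallyEtale.comp B L (L ⊗[B] R)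
  haveI : IsScalarTower B R (L ⊗[B] R) := IsScalarTower.of_algebraMap_eq fun b =>
    (Algebra.TensorProduct.tmul_one_eq_one_tmul b)
  have hdisj : Disjoint ((Submonoid.powers (algebraMap B R f) : Submonoid R) : Set R) (m : Set R) := by
    rw [Set.disjoint_left]
    rintro z ⟨i, rfl⟩ hz
    exact hfm (hm.isPrime.mem_of_pow_mem i hz)
  let q' : Ideal (L ⊗[B] R) := m.map (algebraMap R (L ⊗[B] R))
  haveI : q'.IsPrime := IsLocalization.isPrime_of_isPrime_disjoint (Submonoid.powers (algebraMap B R f)) _ m
    inferInstance hdisj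
  have hcomap : q'.comap (algebraMap R (L ⊗[B] R)) = m :=
    IsLocalization.comap_map_of_isPrime_disjoint (Submonoid.powers (algebraMap B R f)) _ inferInstance hdisj
  haveI : IsLocalization.AtPrime (Localization.AtPrime q') m := by
    have := IsLocalization.isLocalization_isLocalization_atPrime_isLocalization (Submonoid.powers (algebraMap B R f))
      (Localization.AtPrime q') q'
    simpa only [hcomap] using this
  haveI : Algebra.FormallyEtale (L ⊗[B] R) (Localization.AtPrime q') :=
    Algebra.FormallyEtale.of_isLocalization q'.primeCompl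
  haveI : Algebra.FormallyEtale B (Localization.AtPrime q') :=
    Algebra.FormallyEtale.comp B (L ⊗[B] R) (Localization.AtPrime q')
  exact Algebra.FormallyEtale.of_equiv (A := Localization.AtPrime q')
    ((IsLocalization.algEquiv m.primeCompl (Localization.AtPrime q') (Localization.AtPrime m)).restrictScalars B)

omit [Finite G] [FaithfulSMul B R] [Algebra.IsInvariant B R G] in
/-- Étale points have trivial inertia. -/
theorem eq_one_of_isEtaleAt [IsNoetherianRing R] [FaithfulSMul G R] (m : Ideal R) [hm : m.IsMaximal]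
    [Algebra.IsEtaleAt B m] (g : G) (hg : ∀ r, g • r - r ∈ m) : g = 1 := by
  let σ := MulSemiringAction.toAlgHom B R g
  have hσm : ∀ r, σ r ∈ m ↔ r ∈ m := fun r => by
    constructor
    · intro h
      rw [show r = σ r - (g • r - r) by simp [σ]]
      exact sub_mem h (hg r)
    · intro h
      rw [show σ r = r + (g • r - r) by simp [σ]]
      exact add_mem h (hg r)
  let L := Localization.AtPrime m
  let F : L →ₐ[B] L := IsLocalization.liftAlgHom (M := m.primeCompl)
    (f := (IsScalarTower.toAlgHom B R L).comp σ) fun y => by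
      exact IsLocalization.map_units L (⟨σ y, fun h => y.2 ((hσm _).1 h)⟩ : m.primeCompl)
  have hF : ∀ r, F (algebraMap R L r) = algebraMap R L (g • r) := fun r => by
    refine (IsLocalization.lift_eq (M := m.primeCompl) (S := L)
      (g := ((IsScalarTower.toAlgHom B R L).comp σ).toRingHom)
      (fun y : m.primeCompl => IsLocalization.map_units L (⟨σ y, fun h => y.2 ((hσm _).1 h)⟩ : m.primeCompl)) r).trans ?_
    rfl
  let M := IsLocalRing.maximalIdeal L
  have hmM : ∀ r ∈ m, algebraMap R L r ∈ M := fun r hr => by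
    rw [show M = m.map (algebraMap R L) from (IsLocalization.AtPrime.map_eq_maximalIdeal m L).symm]
    exact Ideal.mem_map_of_mem _ hr
  have key : ∀ n : ℕ, (Ideal.Quotient.mkₐ B (M ^ (n + 1))).comp F = Ideal.Quotient.mkₐ B (M ^ (n + 1)) := by
    intro n
    refine Algebra.FormallyUnramified.lift_unique (M.map (Ideal.Quotient.mk (M ^ (n + 1))))
      ⟨n + 1, by rw [← Ideal.map_pow, Ideal.map_quotient_self]; rfl⟩ _ _ ?_
    refine AlgHom.coe_ringHom_injective (IsLocalization.ringHom_ext m.primeCompl (RingHom.ext fun r => ?_))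
    show Ideal.Quotient.mk _ (Ideal.Quotient.mk (M ^ (n + 1)) (F (algebraMap R L r))) =
      Ideal.Quotient.mk _ (Ideal.Quotient.mk (M ^ (n + 1)) (algebraMap R L r))
    rw [Ideal.Quotient.eq, ← map_sub, hF, ← map_sub]
    exact Ideal.mem_map_of_mem _ (hmM _ (hg r))
  refine eq_of_smul_eq_smul (α := R) fun r => ?_
  rw [one_smul]
  haveI : IsNoetherianRing L := IsLocalization.isNoetherianRing m.primeCompl L inferInstance
  have h0 : algebraMap R L (g • r) - algebraMap R L r ∈ (⨅ n : ℕ, M ^ n) := by
    refine Submodule.mem_iInf _ |>.2 fun n => Ideal.pow_le_pow_right n.le_succ ?_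
    have := DFunLike.congr_fun (key n) (algebraMap R L r)
    rw [AlgHom.comp_apply, hF] at this
    exact Ideal.Quotient.eq.1 this
  rw [Ideal.iInf_pow_eq_bot_of_isLocalRing M (IsLocalRing.maximalIdeal.isMaximal L).ne_top, Ideal.mem_bot,
    sub_eq_zero] at h0
  exact IsLocalization.injective L m.primeCompl_le_nonZeroDivisors h0

end Groth.Agent.FinQuotH28
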