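import Groth.Agent.Lib.FinQuotH28.Etale
import Mathlib.RingTheory.Jacobson.Ring
import Mathlib.FieldTheory.IsAlgClosed.Basic

/-!
# Closed points are rational
-/

universe u v

namespace Groth.Agent.FinQuotH28

lemma exists_pt {k : Type u} [Field k] [IsAlgClosed k] {R : Type v} [CommRing R] [Algebra k R]
    [Algebra.FiniteType k R] (M : Ideal R) [M.IsMaximal] : ∃ h : R →ₐ[k] k, RingHom.ker h = M := by
  letI := Ideal.Quotient.field M
  haveI : Algebra.FiniteType k (R ⧸ M) :=
    (inferInstance : Algebra.FiniteType k R).of_surjective (Ideal.Quotient.mkₐ k M) Ideal.Quotient.mk_surjective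
  haveI : Module.Finite k (R ⧸ M) := finite_of_finite_type_of_isJacobsonRing k (R ⧸ M)
  let e : k ≃ₐ[k] R ⧸ M := AlgEquiv.ofBijective (Algebra.ofId k (R ⧸ M))
    (IsAlgClosed.algebraMap_bijective_of_isIntegral (k := k) (K := R ⧸ M))
  refine ⟨e.symm.toAlgHom.comp (Ideal.Quotient.mkₐ k M), ?_⟩
  ext y
  rw [RingHom.mem_ker]
  show e.symm (Ideal.Quotient.mk M y) = 0 ↔ y ∈ M
  rw [EmbeddingLike.map_eq_zero_iff, Ideal.Quotient.eq_zero_iff_mem]

end Groth.Agent.FinQuotH28
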